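import Mathlib
import Groth.Agent.Lib.Helper24.Unibranch.Top

/-!
# Universally injective via generic points (helper24)
-/

set_option autoImplicit false
universe u
open CategoryTheory CategoryTheory.Limits AlgebraicGeometry Opposite TopologicalSpace

namespace Groth.Agent.Lib.Helper24.UnivInj

open Groth.Agent.Lib.Helper24.Unibranch

set_option backward.isDefEq.respectTransparency.types false in
set_option backward.defeqAttrib.useBackward true in
theorem eq_of_comp_eq {X Y : Scheme.{u}} (f : X ⟶ Y) (K : Type u) [Field K]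
    (g₁ g₂ : Spec (.of K) ⟶ X) (hg : g₁ ≫ f = g₂ ≫ f)
    (hpt : g₁ (IsLocalRing.closedPoint K) = g₂ (IsLocalRing.closedPoint K))
    (hs : Function.Surjective (f.residueFieldMap (g₁ (IsLocalRing.closedPoint K))).hom) :
    g₁ = g₂ := by
  obtain ⟨e, h⟩ := Scheme.SpecToEquivOfField_eq_iff.mp congr((Y.SpecToEquivOfField K) $(hg))
  apply (X.SpecToEquivOfField K).injective
  dsimp at e h
  simp only [Scheme.descResidueField_stalkClosedPointTo_comp] at e h
  rw [← f.residueFieldMap_congr'_assoc hpt, CommRingCat.hom_ext_iff] at h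
  rw [Scheme.SpecToEquivOfField_eq_iff]
  refine ⟨hpt, CommRingCat.hom_ext ?_⟩
  apply RingHom.ext
  intro a
  obtain ⟨b, rfl⟩ := hs a
  exact congrArg (fun φ => φ b) h

theorem main {X Y : Scheme.{u}} (f : X ⟶ Y) [Flat f] [IsSeparated f]
    (h2 : ∀ ξ : X, closure ({ξ} : Set X) ∈ irreducibleComponents (X : Type u) →
      Function.Surjective (f.residueFieldMap ξ).hom)
    (h3 : Set.InjOn f.base {ξ : X | closure ({ξ} : Set X) ∈ irreducibleComponents (X : Type u)}) :
    UniversallyInjective f := by
  rw [UniversallyInjective.iff_diagonal, surjective_iff]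
  intro z
  obtain ⟨ζ, hζz, hmax⟩ := exists_maxPt z
  have hcl : IsClosed (Set.range (pullback.diagonal f)) :=
    (pullback.diagonal f).isClosedEmbedding.isClosed_range
  refine hζz.mem_closed hcl ?_
  -- the two projections of ζ are maximal points
  have m₁ : IsMaxPt (pullback.fst f f ζ) := hmax.map (Flat.generalizingMap (pullback.fst f f))
  have m₂ : IsMaxPt (pullback.snd f f ζ) := hmax.map (Flat.generalizingMap (pullback.snd f f))
  have c₁ := m₁.closure_mem_irreducibleComponents
  have c₂ := m₂.closure_mem_irreducibleComponents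
  have hff : f (pullback.fst f f ζ) = f (pullback.snd f f ζ) := by
    rw [← Scheme.Hom.comp_apply, ← Scheme.Hom.comp_apply, pullback.condition]
  have heq : pullback.fst f f ζ = pullback.snd f f ζ := h3 c₁ c₂ hff
  let K : Type u := (pullback f f).residueField ζ
  let φ : Spec (.of K) ⟶ pullback f f := (pullback f f).fromSpecResidueField ζ
  have hφpt : φ (IsLocalRing.closedPoint K) = ζ :=
    Scheme.fromSpecResidueField_apply _ _
  have hpt₁ : (φ ≫ pullback.fst f f) (IsLocalRing.closedPoint K) = pullback.fst f f ζ := by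
    rw [Scheme.Hom.comp_apply, hφpt]
  have hpt₂ : (φ ≫ pullback.snd f f) (IsLocalRing.closedPoint K) = pullback.snd f f ζ := by
    rw [Scheme.Hom.comp_apply, hφpt]
  have hφ₁ : φ ≫ pullback.fst f f = φ ≫ pullback.snd f f := by
    refine eq_of_comp_eq f K _ _ (by simp [pullback.condition]) (by rw [hpt₁, hpt₂, heq]) ?_
    rw [hpt₁]
    exact h2 _ c₁
  have hφ₂ : φ = (φ ≫ pullback.fst f f) ≫ pullback.diagonal f := by
    apply pullback.hom_ext
    · simp
    · simp [hφ₁]
  refine ⟨(φ ≫ pullback.fst f f) (IsLocalRing.closedPoint K), ?_⟩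
  rw [← Scheme.Hom.comp_apply, ← hφ₂, hφpt]

end Groth.Agent.Lib.Helper24.UnivInj
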